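import Mathlib
import Cfsg.Prelude.Def_Transfer
import Cfsg.Agent.Lib.Helper89.Twist
import Cfsg.Agent.Lib.Helper89.TwistRank
import Cfsg.Agent.Lib.Helper89.ES

set_option autoImplicit false

namespace Cfsg.Agent.Helper89

open scoped commutatorElement

section
variable {E : Type*} [Group E]

/-- `x ^ t` for `t : ZMod 2`. -/
def pwr (x : E) (t : ZMod 2) : E := if t = 0 then 1 else x

@[simp] theorem pwr_zero (x : E) : pwr x 0 = 1 := by simp [pwr]

@[simp] theorem pwr_one (x : E) : pwr x 1 = x := by
  have : (1 : ZMod 2) ≠ 0 := by decide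
  simp [pwr, this]

theorem CentralInv.pw_eq_pwr (c : CentralInv E) (t : ZMod 2) : c.pw t = pwr c.val t := rfl

/-- An extraspecial `2`-group is `Good`. -/
theorem Good.of_isExtraspecial (hE : Cfsg.IsExtraspecial 2 E) : ∃ c : E, Good E c := by
  obtain ⟨c', hc'ne⟩ := exists_ne_one_of_card_two hE.2
  have hcases := card_two_cases' hE.2 c' hc'ne
  have hcases' : ∀ g : E, g ∈ Subgroup.center E → g = 1 ∨ g = (c' : E) := by
    intro g hg
    rcases hcases ⟨g, hg⟩ with h | h
    · left; exact congrArg Subtype.val h
    · right; exact congrArg Subtype.val h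
  have hc'sq : (c' : E) * (c' : E) = 1 := by
    rcases hcases (c' * c') with h | h
    · exact congrArg Subtype.val h
    · exfalso
      apply hc'ne
      have := congrArg (fun x => c'⁻¹ * x) h
      simpa using this
  have hcentral : ∀ g : E, g * (c' : E) = (c' : E) * g := fun g => Subgroup.mem_center_iff.mp c'.2 g
  have hcomm : ∀ g k : E, g * k * g⁻¹ * k⁻¹ = 1 ∨ g * k * g⁻¹ * k⁻¹ = (c' : E) := by
    intro g k
    apply hcases'
    rw [← hE.1.2.2, commutator_def, ← commutatorElement_def]
    exact Subgroup.commutator_mem_commutator (Subgroup.mem_top _) (Subgroup.mem_top _)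
  have hcent : ∀ g : E, (∀ k : E, g * k = k * g) → g = 1 ∨ g = (c' : E) := by
    intro g hg
    apply hcases'
    rw [Subgroup.mem_center_iff]
    intro k
    exact (hg k).symm
  refine ⟨(c' : E), ?_, hc'sq, hcentral, ?_, hcomm, hcent⟩
  · intro h
    apply hc'ne
    exact Subtype.ext h
  · intro x
    apply hcent
    intro y
    rcases hcomm x y with h1 | h1
    · have h2 : x * y = y * x := comm_of_commutator_eq_one h1
      calc x * x * y = x * (x * y) := by group
        _ = x * (y * x) := by rw [h2]
        _ = (x * y) * x := by group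
        _ = (y * x) * x := by rw [h2]
        _ = y * (x * x) := by group
    · have h2 : x * y * x⁻¹ = (c' : E) * y := conj_eq_of_commutator_eq h1
      have h3 : x * y = (c' : E) * y * x := by
        have := congrArg (fun w => w * x) h2
        simpa [mul_assoc] using this
      have hzx : x * (c' : E) = (c' : E) * x := hcentral x
      calc x * x * y = x * (x * y) := by group
        _ = x * ((c' : E) * y * x) := by rw [h3]
        _ = (x * (c' : E)) * y * x := by group
        _ = ((c' : E) * x) * y * x := by rw [hzx]
        _ = (c' : E) * (x * y) * x := by group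
        _ = (c' : E) * ((c' : E) * y * x) * x := by rw [h3]
        _ = ((c' : E) * (c' : E)) * y * (x * x) := by group
        _ = y * (x * x) := by rw [hc'sq, one_mul]

end

namespace Good

variable {E : Type*} [Group E] {c : E}

/-- Transport along an isomorphism. -/
theorem map {E' : Type*} [Group E'] (h : Good E c) (φ : E ≃* E') : Good E' (φ c) where
  ne_one := by
    intro h1
    apply h.ne_one
    rw [← map_one φ] at h1
    exact φ.injective h1
  sq := by rw [← map_mul, h.sq, map_one]
  central := by
    intro g
    obtain ⟨g, rfl⟩ := φ.surjective g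
    rw [← map_mul, ← map_mul, h.central]
  sqs := by
    intro g
    obtain ⟨g, rfl⟩ := φ.surjective g
    rw [← map_mul]
    rcases h.sqs g with h1 | h1
    · left; rw [h1, map_one]
    · right; rw [h1]
  comm := by
    intro g k
    obtain ⟨g, rfl⟩ := φ.surjective g
    obtain ⟨k, rfl⟩ := φ.surjective k
    rw [← map_inv, ← map_inv, ← map_mul, ← map_mul, ← map_mul]
    rcases h.comm g k with h1 | h1
    · left; rw [h1, map_one]
    · right; rw [h1]
  cent := by
    intro g hg
    obtain ⟨g, rfl⟩ := φ.surjective g
    have : ∀ k : E, g * k = k * g := by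
      intro k
      apply φ.injective
      rw [map_mul, map_mul]
      exact hg (φ k)
    rcases h.cent g this with h1 | h1
    · left; rw [h1, map_one]
    · right; rw [h1]

/-- The central involution, bundled. -/
def toCentralInv (h : Good E c) : CentralInv E := ⟨c, h.central, h.sq⟩

@[simp] theorem toCentralInv_val (h : Good E c) : h.toCentralInv.val = c := rfl

theorem inv_eq (h : Good E c) : c⁻¹ = c := inv_eq_of_mul_eq_one_right h.sq

/-- Non-commuting elements have commutator `c`. -/
theorem comm_eq_of_ne (h : Good E c) {g k : E} (hgk : g * k ≠ k * g) : g * k * g⁻¹ * k⁻¹ = c := by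
  rcases h.comm g k with h1 | h1
  · exact absurd (comm_of_commutator_eq_one h1) hgk
  · exact h1

theorem mul_eq_of_ne (h : Good E c) {g k : E} (hgk : g * k ≠ k * g) : g * k = c * k * g := by
  have := congrArg (fun w => w * k * g) (h.comm_eq_of_ne hgk)
  simpa [mul_assoc] using this

theorem mul_eq_of_comm_eq (_h : Good E c) {g k : E} (hgk : g * k * g⁻¹ * k⁻¹ = c) :
    g * k = c * k * g := by
  have := congrArg (fun w => w * k * g) hgk
  simpa [mul_assoc] using this

theorem ne_of_comm_eq (h : Good E c) {g k : E} (hgk : g * k * g⁻¹ * k⁻¹ = c) : g * k ≠ k * g := by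
  intro h1
  apply h.ne_one
  rw [← hgk, h1]; group

/-- The square of a product. -/
theorem mul_sq (h : Good E c) {g k : E} (hgk : g * k * g⁻¹ * k⁻¹ = c) :
    (g * k) * (g * k) = c * (g * g) * (k * k) := by
  have h1 := h.mul_eq_of_comm_eq hgk
  -- k g = c g k
  have h2 : k * g = c * g * k := by
    calc k * g = (c * c) * k * g := by rw [h.sq, one_mul]
      _ = c * (c * k * g) := by group
      _ = c * (g * k) := by rw [h1]
      _ = c * g * k := by group
  have hcg : g * c = c * g := h.central g
  calc g * k * (g * k) = g * (k * g) * k := by group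
    _ = g * (c * g * k) * k := by rw [h2]
    _ = (g * c) * g * k * k := by group
    _ = (c * g) * g * k * k := by rw [hcg]
    _ = c * (g * g) * (k * k) := by group

/-- The commutator with a fixed element, as a homomorphism. -/
def commHom (h : Good E c) (k : E) : E →* E where
  toFun g := g * k * g⁻¹ * k⁻¹
  map_one' := by group
  map_mul' g g' := by
    have hc : ∀ u : E, g' * k * g'⁻¹ * k⁻¹ * u = u * (g' * k * g'⁻¹ * k⁻¹) := by
      intro u
      rcases h.comm g' k with h1 | h1
      · rw [h1]; simp
      · rw [h1]; exact (h.central u).symm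
    calc g * g' * k * (g * g')⁻¹ * k⁻¹ = g * ((g' * k * g'⁻¹ * k⁻¹) * (k * g⁻¹ * k⁻¹)) := by group
      _ = g * ((k * g⁻¹ * k⁻¹) * (g' * k * g'⁻¹ * k⁻¹)) := by rw [hc]
      _ = g * k * g⁻¹ * k⁻¹ * (g' * k * g'⁻¹ * k⁻¹) := by group

@[simp] theorem commHom_apply (h : Good E c) (k g : E) : h.commHom k g = g * k * g⁻¹ * k⁻¹ := rfl

theorem commHom_eq_one_iff (h : Good E c) (k g : E) : h.commHom k g = 1 ↔ g * k = k * g := by
  rw [commHom_apply]
  constructor
  · exact comm_of_commutator_eq_one
  · exact commutator_eq_one_of_comm

theorem commHom_cases (h : Good E c) (k g : E) : h.commHom k g = 1 ∨ h.commHom k g = c :=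
  h.comm g k

end Good

namespace Twist

/-- Functoriality of the twisted product. -/
def congr {E E' : Type*} [Group E] [Group E'] {c : CentralInv E} {c' : CentralInv E'}
    (φ : E ≃* E') (hφ : φ c.val = c'.val) (p q : ZMod 2) : Twist E c p q ≃* Twist E' c' p q where
  toFun a := ⟨φ a.g, a.x, a.y⟩
  invFun a := ⟨φ.symm a.g, a.x, a.y⟩
  left_inv a := by
    apply Twist.ext
    · simp
    · rfl
    · rfl
  right_inv a := by
    apply Twist.ext
    · simp
    · rfl
    · rfl
  map_mul' a b := by
    have hpw : ∀ t : ZMod 2, φ (c.pw t) = c'.pw t := by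
      intro t
      rcases CentralInv.zmod_two_cases t with rfl | rfl
      · simp
      · simp [hφ]
    apply Twist.ext
    · simp only [mul_g, map_mul, hpw]
    · rfl
    · rfl

@[simp] theorem congr_inl {E E' : Type*} [Group E] [Group E'] {c : CentralInv E} {c' : CentralInv E'}
    (φ : E ≃* E') (hφ : φ c.val = c'.val) (p q : ZMod 2) (k : E) :
    congr φ hφ p q (inl k) = inl (φ k) := rfl

end Twist

/-- A `Good` group of order two is the group of order two. -/
theorem Good.exists_equiv_of_card_two {E : Type*} [Group E] [Finite E] {c : E} (h : Good E c)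
    (hcard : Nat.card E = 2) :
    ∃ φ : Multiplicative (ZMod 2) ≃* E, φ (Multiplicative.ofAdd 1) = c := by
  have hpw_add : ∀ s t : ZMod 2, pwr c (s + t) = pwr c s * pwr c t := fun s t => h.toCentralInv.pw_add s t
  let f : Multiplicative (ZMod 2) →* E :=
    { toFun := fun s => pwr c (Multiplicative.toAdd s)
      map_one' := by simp
      map_mul' := fun s t => by
        show pwr c (Multiplicative.toAdd s + Multiplicative.toAdd t) = _
        exact hpw_add _ _ }
  have hinj : Function.Injective f := by
    rw [injective_iff_map_eq_one]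
    intro s hs
    have : pwr c (Multiplicative.toAdd s) = 1 := hs
    have := (h.toCentralInv.pw_eq_one_iff h.ne_one _).mp this
    exact Multiplicative.toAdd.injective this
  have hbij : Function.Bijective f := by
    apply hinj.bijective_of_nat_card_le
    rw [hcard, Twist.card_mult_zmod_two]
  refine ⟨MulEquiv.ofBijective f hbij, ?_⟩
  show pwr c (Multiplicative.toAdd (Multiplicative.ofAdd (1 : ZMod 2))) = c
  simp

end Cfsg.Agent.Helper89
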