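import Mathlib
import Cfsg.Agent.Lib.Helper89.Classify.Basic

set_option autoImplicit false

namespace Cfsg.Agent.Helper89

/-- The number of elements squaring to the identity. -/
noncomputable def invCount (E : Type*) [Group E] : ℕ := Nat.card {g : E // g ^ 2 = 1}

theorem invCount_congr {E E' : Type*} [Group E] [Group E'] (φ : E ≃* E') :
    invCount E = invCount E' := by
  unfold invCount
  apply Nat.card_congr
  apply Equiv.subtypeEquiv φ.toEquiv
  intro g
  constructor
  · intro h
    show φ g ^ 2 = 1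
    rw [← map_pow, h, map_one]
  · intro h
    have h' : φ g ^ 2 = 1 := h
    rw [← map_pow, ← map_one φ] at h'
    exact φ.injective h'

theorem elemAb_map {E E' : Type*} [Group E] [Group E'] (φ : E ≃* E') {A : Subgroup E}
    (hA : Cfsg.IsElementaryAbelian 2 A) : Cfsg.IsElementaryAbelian 2 (A.map φ.toMonoidHom) := by
  apply elemAb_of
  · rintro _ ⟨a, ha, rfl⟩ _ ⟨b, hb, rfl⟩
    rw [← map_mul, ← map_mul, elemAb_comm hA ha hb]
  · rintro _ ⟨a, ha, rfl⟩
    rw [← map_mul, elemAb_sq hA ha, map_one]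

theorem RankGE.congr {E E' : Type*} [Group E] [Group E'] (φ : E ≃* E') {r : ℕ} (h : RankGE E r) :
    RankGE E' r := by
  obtain ⟨A, hA, hcard⟩ := h
  refine ⟨A.map φ.toMonoidHom, elemAb_map φ hA, ?_⟩
  rw [Subgroup.card_map_of_injective φ.injective, hcard]

theorem RankLE.congr {E E' : Type*} [Group E] [Group E'] (φ : E ≃* E') {r : ℕ} (h : RankLE E r) :
    RankLE E' r := by
  intro A hA
  have := h _ (elemAb_map φ.symm hA)
  rwa [Subgroup.card_map_of_injective φ.symm.injective] at this

/-- Plus type: `2 ^ (2 n) + 2 ^ n` involutions (with the identity) and `2`-rank `n + 1`. -/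
def IsPlus (E : Type*) [Group E] (n : ℕ) : Prop :=
  invCount E = 2 ^ (2 * n) + 2 ^ n ∧ RankGE E (n + 1) ∧ RankLE E (n + 1)

/-- Minus type: `2 ^ (2 n) - 2 ^ n` involutions (with the identity) and `2`-rank `n`. -/
def IsMinus (E : Type*) [Group E] (n : ℕ) : Prop :=
  invCount E = 2 ^ (2 * n) - 2 ^ n ∧ RankGE E n ∧ RankLE E n

theorem IsPlus.congr {E E' : Type*} [Group E] [Group E'] (φ : E ≃* E') {n : ℕ} (h : IsPlus E n) :
    IsPlus E' n :=
  ⟨(invCount_congr φ).symm.trans h.1, h.2.1.congr φ, h.2.2.congr φ⟩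

theorem IsMinus.congr {E E' : Type*} [Group E] [Group E'] (φ : E ≃* E') {n : ℕ} (h : IsMinus E n) :
    IsMinus E' n :=
  ⟨(invCount_congr φ).symm.trans h.1, h.2.1.congr φ, h.2.2.congr φ⟩

theorem not_isPlus_and_isMinus {E : Type*} [Group E] {n : ℕ} (h1 : IsPlus E n) (h2 : IsMinus E n) :
    False := by
  obtain ⟨A, hA, hcard⟩ := h1.2.1
  have := h2.2.2 A hA
  rw [hcard] at this
  have : n + 1 ≤ n := (Nat.pow_le_pow_iff_right (by norm_num)).mp this
  omega

namespace Twist

variable {E : Type*} [Group E] {c : CentralInv E}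

/-- Reordering of the underlying product. -/
def equivProd' {p q : ZMod 2} : Twist E c p q ≃ (ZMod 2 × ZMod 2) × E where
  toFun a := ((a.x, a.y), a.g)
  invFun t := ⟨t.2, t.1.1, t.1.2⟩
  left_inv _ := rfl
  right_inv _ := rfl

theorem sq_eq_one_iff (a : Twist E c 0 0) : a ^ 2 = 1 ↔ a.g * a.g * c.pw (a.y * a.x) = 1 := by
  rw [pow_two]
  constructor
  · intro h
    have := congrArg Twist.g h
    simpa [beta] using this
  · intro h
    apply Twist.ext
    · simpa [beta] using h
    · simp only [mul_x, one_x]; exact CharTwo.add_self_eq_zero _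
    · simp only [mul_y, one_y]; exact CharTwo.add_self_eq_zero _

/-- The number of involutions of `E ∘ D₈`. -/
theorem invCount_eq [Finite E] (hG : Good E c.val) :
    invCount (Twist E c 0 0) = 2 * invCount E + Nat.card E := by
  classical
  have e1 : {a : Twist E c 0 0 // a ^ 2 = 1} ≃
      {t : (ZMod 2 × ZMod 2) × E // t.2 * t.2 * c.pw (t.1.2 * t.1.1) = 1} :=
    Equiv.subtypeEquiv equivProd' (fun a => sq_eq_one_iff a)
  have e2 := Equiv.subtypeProdEquivSigmaSubtype
    (fun (b : ZMod 2 × ZMod 2) (g : E) => g * g * c.pw (b.2 * b.1) = 1)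
  have hcard : invCount (Twist E c 0 0) =
      ∑ b : ZMod 2 × ZMod 2, Nat.card {g : E // g * g * c.pw (b.2 * b.1) = 1} := by
    unfold invCount
    rw [Nat.card_congr e1, Nat.card_congr e2, Nat.card_sigma]
  -- the fibres
  have hfib0 : ∀ b : ZMod 2 × ZMod 2, b.2 * b.1 = 0 →
      Nat.card {g : E // g * g * c.pw (b.2 * b.1) = 1} = invCount E := by
    intro b hb
    unfold invCount
    apply Nat.card_congr
    apply Equiv.subtypeEquiv (Equiv.refl E)
    intro g
    rw [hb, c.pw_zero, mul_one, pow_two]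
    rfl
  have hfib1 : Nat.card {g : E // g * g * c.pw (1 * 1) = 1} + invCount E = Nat.card E := by
    unfold invCount
    have e3 : {g : E // g * g * c.pw (1 * 1) = 1} ≃ {g : E // ¬ g ^ 2 = 1} := by
      apply Equiv.subtypeEquiv (Equiv.refl E)
      intro g
      rw [mul_one, c.pw_one, pow_two]
      show g * g * c.val = 1 ↔ ¬ g * g = 1
      rcases hG.sqs g with h1 | h1
      · rw [h1, one_mul]
        constructor
        · intro h2; exact absurd h2 hG.ne_one
        · intro h2; exact absurd rfl h2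
      · rw [h1, hG.sq]
        constructor
        · intro _; exact hG.ne_one
        · intro _; rfl
    rw [Nat.card_congr e3, add_comm, ← Nat.card_sum]
    exact Nat.card_congr (Equiv.sumCompl (fun g : E => g ^ 2 = 1))
  rw [hcard, Fintype.sum_prod_type]
  have hsum2 : ∀ f : ZMod 2 → ℕ, ∑ i : ZMod 2, f i = f 0 + f 1 := by
    intro f
    exact Fin.sum_univ_two f
  rw [hsum2, hsum2, hsum2]
  rw [hfib0 (0, 0) (by simp), hfib0 (0, 1) (by simp), hfib0 (1, 0) (by simp)]
  have hfib1' : Nat.card {g : E // g * g * c.pw (((1 : ZMod 2), (1 : ZMod 2)).2 *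
      ((1 : ZMod 2), (1 : ZMod 2)).1) = 1} + invCount E = Nat.card E := hfib1
  omega

end Twist

theorem invCount_Z2 : invCount (Multiplicative (ZMod 2)) = 2 := by
  unfold invCount
  have h : ∀ g : Multiplicative (ZMod 2), g ^ 2 = 1 := by decide
  rw [Nat.card_congr (Equiv.subtypeUnivEquiv h), Twist.card_mult_zmod_two]

end Cfsg.Agent.Helper89
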