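import Mathlib
import Cfsg.Agent.Lib.Helper89.Classify.Basic

set_option autoImplicit false

namespace Cfsg.Agent.Helper89

section
variable {E : Type*} [Group E]

/-- The centralizer of two elements. -/
def cent2 (x y : E) : Subgroup E := Subgroup.centralizer {x} ⊓ Subgroup.centralizer {y}

theorem mem_cent2 {x y g : E} : g ∈ cent2 x y ↔ g * x = x * g ∧ g * y = y * g := by
  unfold cent2
  rw [Subgroup.mem_inf, Subgroup.mem_centralizer_singleton_iff, Subgroup.mem_centralizer_singleton_iff]

theorem pwr_cases (x : E) (t : ZMod 2) : pwr x t = 1 ∨ pwr x t = x := by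
  rcases CentralInv.zmod_two_cases t with rfl | rfl
  · left; simp
  · right; simp

theorem pwr_comm_of_comm {g x : E} (h : g * x = x * g) (t : ZMod 2) : g * pwr x t = pwr x t * g := by
  rcases pwr_cases x t with h1 | h1
  · rw [h1]; simp
  · rw [h1]; exact h

end

namespace Good

variable {E : Type*} [Group E] {c : E} (h : Good E c) {x y : E} {p q : ZMod 2}

include h in
theorem pwr_c_central (t : ZMod 2) (u : E) : pwr c t * u = u * pwr c t :=
  (pwr_comm_of_comm (h.central u) t).symm

include h in
theorem pwr_c_add (s t : ZMod 2) : pwr c (s + t) = pwr c s * pwr c t := h.toCentralInv.pw_add s t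

include h in
theorem c_mem_cent2 : c ∈ cent2 x y := mem_cent2.mpr ⟨(h.central x).symm, (h.central y).symm⟩

/-- The central involution of the centralizer. -/
def centCInv : CentralInv ↥(cent2 x y) where
  val := ⟨c, h.c_mem_cent2⟩
  central := fun g => Subtype.ext (h.central g)
  sq := Subtype.ext h.sq

theorem centCInv_pw (t : ZMod 2) : (((h.centCInv (x := x) (y := y)).pw t : ↥(cent2 x y)) : E) = pwr c t := by
  rcases CentralInv.zmod_two_cases t with rfl | rfl
  · simp
  · simp [centCInv]

/-- The decomposition map, as a function. -/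
def decompFun (a : Twist ↥(cent2 x y) (h.centCInv (x := x) (y := y)) p q) : E :=
  (a.g : E) * pwr x a.x * pwr y a.y

variable (hxy : x * y * x⁻¹ * y⁻¹ = c) (hx : x * x = pwr c p) (hy : y * y = pwr c q)

include h hxy in
theorem yx_eq : y * x = c * (x * y) := by
  have h1 := h.mul_eq_of_comm_eq hxy
  calc y * x = (c * c) * y * x := by rw [h.sq, one_mul]
    _ = c * (c * y * x) := by group
    _ = c * (x * y) := by rw [h1]

include h hx in
theorem pwr_x_mul (s t : ZMod 2) : pwr x s * pwr x t = pwr c (p * s * t) * pwr x (s + t) := by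
  have h11 : (1 : ZMod 2) + 1 = 0 := by decide
  rcases CentralInv.zmod_two_cases s with rfl | rfl <;> rcases CentralInv.zmod_two_cases t with rfl | rfl
  · simp
  · simp
  · simp
  · simp only [pwr_one, mul_one, h11, pwr_zero]
    exact hx

include h hxy in
theorem pwr_y_pwr_x (s t : ZMod 2) : pwr y s * pwr x t = pwr c (s * t) * (pwr x t * pwr y s) := by
  rcases CentralInv.zmod_two_cases s with rfl | rfl <;> rcases CentralInv.zmod_two_cases t with rfl | rfl
  · simp
  · simp
  · simp
  · simp only [pwr_one, mul_one]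
    exact h.yx_eq hxy

include h hxy hx hy in
theorem decompFun_mul (a b : Twist ↥(cent2 x y) (h.centCInv (x := x) (y := y)) p q) :
    h.decompFun (a * b) = h.decompFun a * h.decompFun b := by
  unfold decompFun
  simp only [Twist.mul_g, Twist.mul_x, Twist.mul_y, Subgroup.coe_mul, centCInv_pw]
  have ha := mem_cent2.mp a.g.2
  have hb := mem_cent2.mp b.g.2
  have hB_X1 : (b.g : E) * pwr x a.x = pwr x a.x * (b.g : E) := pwr_comm_of_comm hb.1 _
  have hB_Y1 : (b.g : E) * pwr y a.y = pwr y a.y * (b.g : E) := pwr_comm_of_comm hb.2 _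
  have hYX := h.pwr_y_pwr_x hxy a.y b.x
  have hXX := h.pwr_x_mul hx a.x b.x
  have hYY : pwr y a.y * pwr y b.y = pwr c (q * a.y * b.y) * pwr y (a.y + b.y) := h.pwr_x_mul hy a.y b.y
  have hβ : pwr c (beta p q a.x a.y b.x b.y) =
      pwr c (p * a.x * b.x) * pwr c (a.y * b.x) * pwr c (q * a.y * b.y) := by
    unfold beta
    rw [h.pwr_c_add, h.pwr_c_add]
  have hP2 := h.pwr_c_central (a.y * b.x)
  have hP3 := h.pwr_c_central (q * a.y * b.y)
  have hP1 := h.pwr_c_central (p * a.x * b.x)
  rw [hβ]
  symm
  calc (a.g : E) * pwr x a.x * pwr y a.y * ((b.g : E) * pwr x b.x * pwr y b.y)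
      = (a.g : E) * pwr x a.x * (pwr y a.y * (b.g : E)) * pwr x b.x * pwr y b.y := by group
    _ = (a.g : E) * pwr x a.x * ((b.g : E) * pwr y a.y) * pwr x b.x * pwr y b.y := by rw [hB_Y1]
    _ = (a.g : E) * (pwr x a.x * (b.g : E)) * (pwr y a.y * pwr x b.x) * pwr y b.y := by group
    _ = (a.g : E) * ((b.g : E) * pwr x a.x) * (pwr c (a.y * b.x) * (pwr x b.x * pwr y a.y)) *
          pwr y b.y := by rw [hB_X1, hYX]
    _ = (a.g : E) * (b.g : E) * (pwr x a.x * pwr c (a.y * b.x)) * pwr x b.x *
          (pwr y a.y * pwr y b.y) := by group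
    _ = (a.g : E) * (b.g : E) * (pwr c (a.y * b.x) * pwr x a.x) * pwr x b.x *
          (pwr c (q * a.y * b.y) * pwr y (a.y + b.y)) := by rw [← hP2, hYY]
    _ = (a.g : E) * (b.g : E) * pwr c (a.y * b.x) * (pwr x a.x * pwr x b.x) *
          pwr c (q * a.y * b.y) * pwr y (a.y + b.y) := by group
    _ = (a.g : E) * (b.g : E) * pwr c (a.y * b.x) * (pwr c (p * a.x * b.x) * pwr x (a.x + b.x)) *
          pwr c (q * a.y * b.y) * pwr y (a.y + b.y) := by rw [hXX]
    _ = (a.g : E) * (b.g : E) * (pwr c (a.y * b.x) * pwr c (p * a.x * b.x)) *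
          (pwr x (a.x + b.x) * pwr c (q * a.y * b.y)) * pwr y (a.y + b.y) := by group
    _ = (a.g : E) * (b.g : E) * (pwr c (p * a.x * b.x) * pwr c (a.y * b.x)) *
          (pwr c (q * a.y * b.y) * pwr x (a.x + b.x)) * pwr y (a.y + b.y) := by rw [hP2, ← hP3]
    _ = (a.g : E) * (b.g : E) *
          (pwr c (p * a.x * b.x) * pwr c (a.y * b.x) * pwr c (q * a.y * b.y)) *
          pwr x (a.x + b.x) * pwr y (a.y + b.y) := by group

/-- The decomposition homomorphism `C_E(x, y) ∘ ⟨x, y⟩ → E`. -/
def decompHom : Twist ↥(cent2 x y) (h.centCInv (x := x) (y := y)) p q →* E where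
  toFun := h.decompFun
  map_one' := by
    unfold decompFun
    simp
  map_mul' := h.decompFun_mul hxy hx hy

theorem decompHom_apply (a : Twist ↥(cent2 x y) (h.centCInv (x := x) (y := y)) p q) :
    h.decompHom hxy hx hy a = (a.g : E) * pwr x a.x * pwr y a.y := rfl

include hxy in
theorem commHom_x_y : h.commHom x y = c := by
  rw [commHom_apply]
  have : y * x * y⁻¹ * x⁻¹ = (x * y * x⁻¹ * y⁻¹)⁻¹ := by group
  rw [this, hxy, h.inv_eq]

theorem decompHom_injective : Function.Injective (h.decompHom hxy hx hy) := by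
  rw [injective_iff_map_eq_one]
  intro a ha
  rw [decompHom_apply] at ha
  have hg := mem_cent2.mp a.g.2
  -- apply the commutator homs
  have h1 : h.commHom x ((a.g : E) * pwr x a.x * pwr y a.y) = pwr c a.y := by
    rw [map_mul, map_mul]
    have e1 : h.commHom x (a.g : E) = 1 := (h.commHom_eq_one_iff x _).mpr hg.1
    have e2 : h.commHom x (pwr x a.x) = 1 := by
      rw [h.commHom_eq_one_iff]
      rcases pwr_cases x a.x with h3 | h3
      · rw [h3]; simp
      · rw [h3]
    have e3 : h.commHom x (pwr y a.y) = pwr c a.y := by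
      rcases CentralInv.zmod_two_cases a.y with h3 | h3
      · rw [h3]; simp
      · rw [h3, pwr_one, pwr_one]; exact h.commHom_x_y hxy
    rw [e1, e2, e3, one_mul, one_mul]
  have h2 : h.commHom y ((a.g : E) * pwr x a.x * pwr y a.y) = pwr c a.x := by
    rw [map_mul, map_mul]
    have e1 : h.commHom y (a.g : E) = 1 := (h.commHom_eq_one_iff y _).mpr hg.2
    have e2 : h.commHom y (pwr y a.y) = 1 := by
      rw [h.commHom_eq_one_iff]
      rcases pwr_cases y a.y with h3 | h3
      · rw [h3]; simp
      · rw [h3]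
    have e3 : h.commHom y (pwr x a.x) = pwr c a.x := by
      rcases CentralInv.zmod_two_cases a.x with h3 | h3
      · rw [h3]; simp
      · rw [h3, pwr_one, pwr_one, commHom_apply]; exact hxy
    rw [e1, e2, e3, one_mul, mul_one]
  rw [ha, map_one] at h1 h2
  have hy0 : a.y = 0 := (h.toCentralInv.pw_eq_one_iff h.ne_one _).mp h1.symm
  have hx0 : a.x = 0 := (h.toCentralInv.pw_eq_one_iff h.ne_one _).mp h2.symm
  rw [hx0, hy0, pwr_zero, pwr_zero, mul_one, mul_one] at ha
  apply Twist.ext
  · exact Subtype.ext ha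
  · exact hx0
  · exact hy0

section card
variable [Finite E]

include h in
theorem card_le_four_mul : Nat.card E ≤ Nat.card ↥(cent2 x y) * 4 := by
  have : Fact (Nat.Prime 2) := ⟨Nat.prime_two⟩
  have hker : (⊤ : Subgroup E) ⊓ ((h.commHom x).prod (h.commHom y)).ker = cent2 x y := by
    rw [top_inf_eq]
    ext g
    rw [MonoidHom.mem_ker, mem_cent2, MonoidHom.prod_apply, Prod.ext_iff]
    simp only [Prod.fst_one, Prod.snd_one, h.commHom_eq_one_iff]
  have hsplit := card_eq_card_inf_ker_mul_card_map ((h.commHom x).prod (h.commHom y)) ⊤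
  rw [hker, Subgroup.card_top] at hsplit
  have hZ : Nat.card (Subgroup.zpowers c) = 2 := by
    rw [Nat.card_zpowers]
    exact orderOf_eq_prime (by rw [pow_two]; exact h.sq) h.ne_one
  have hmemZ : ∀ u : E, u = 1 ∨ u = c → u ∈ Subgroup.zpowers c := by
    rintro u (rfl | rfl)
    · exact Subgroup.one_mem _
    · exact Subgroup.mem_zpowers _
  have hle : (⊤ : Subgroup E).map ((h.commHom x).prod (h.commHom y)) ≤
      (Subgroup.zpowers c).prod (Subgroup.zpowers c) := by
    rintro _ ⟨g, _, rfl⟩
    rw [Subgroup.mem_prod]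
    exact ⟨hmemZ _ (h.commHom_cases x g), hmemZ _ (h.commHom_cases y g)⟩
  have hcard4 : Nat.card ((Subgroup.zpowers c).prod (Subgroup.zpowers c)) = 4 := by
    rw [Nat.card_congr (Subgroup.prodEquiv _ _).toEquiv, Nat.card_prod, hZ]
  rw [hsplit]
  apply Nat.mul_le_mul_left
  calc Nat.card ((⊤ : Subgroup E).map ((h.commHom x).prod (h.commHom y)))
      ≤ Nat.card ((Subgroup.zpowers c).prod (Subgroup.zpowers c)) := Subgroup.card_le_of_le hle
    _ = 4 := hcard4

/-- The decomposition `E ≅ C_E(x, y) ∘ ⟨x, y⟩`. -/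
noncomputable def decompEquiv : Twist ↥(cent2 x y) (h.centCInv (x := x) (y := y)) p q ≃* E :=
  MulEquiv.ofBijective (h.decompHom hxy hx hy)
    ((h.decompHom_injective hxy hx hy).bijective_of_nat_card_le
      (by rw [Twist.card_eq]; exact h.card_le_four_mul))

theorem decompEquiv_apply (a : Twist ↥(cent2 x y) (h.centCInv (x := x) (y := y)) p q) :
    h.decompEquiv hxy hx hy a = (a.g : E) * pwr x a.x * pwr y a.y := rfl

theorem decompEquiv_inl :
    h.decompEquiv hxy hx hy (Twist.inl (h.centCInv (x := x) (y := y)).val) = c := by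
  rw [decompEquiv_apply, Twist.inl_g, Twist.inl_x, Twist.inl_y, pwr_zero, pwr_zero, mul_one, mul_one]
  rfl

include h hxy hx hy in
theorem card_eq_four_mul : Nat.card E = Nat.card ↥(cent2 x y) * 4 := by
  rw [← Nat.card_congr (h.decompEquiv hxy hx hy).toEquiv, Twist.card_eq]

include hxy hx hy in
/-- The centralizer of the pair is again `Good`. -/
theorem good_cent2 : Good ↥(cent2 x y) (h.centCInv (x := x) (y := y)).val where
  ne_one := by
    intro h1
    exact h.ne_one (congrArg Subtype.val h1)
  sq := Subtype.ext h.sq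
  central := fun g => Subtype.ext (h.central g)
  sqs := by
    intro g
    rcases h.sqs (g : E) with h1 | h1
    · left; exact Subtype.ext h1
    · right; exact Subtype.ext h1
  comm := by
    intro g k
    rcases h.comm (g : E) (k : E) with h1 | h1
    · left; apply Subtype.ext; simpa using h1
    · right; apply Subtype.ext; simpa [centCInv] using h1
  cent := by
    intro g hg
    have hgm := mem_cent2.mp g.2
    have : ∀ k : E, (g : E) * k = k * (g : E) := by
      intro k
      obtain ⟨a, rfl⟩ := (h.decompEquiv hxy hx hy).surjective k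
      rw [decompEquiv_apply]
      have h1 : (g : E) * (a.g : E) = (a.g : E) * (g : E) := congrArg Subtype.val (hg a.g)
      have h2 := pwr_comm_of_comm hgm.1 a.x
      have h3 := pwr_comm_of_comm hgm.2 a.y
      calc (g : E) * ((a.g : E) * pwr x a.x * pwr y a.y)
          = ((g : E) * (a.g : E)) * pwr x a.x * pwr y a.y := by group
        _ = ((a.g : E) * (g : E)) * pwr x a.x * pwr y a.y := by rw [h1]
        _ = (a.g : E) * ((g : E) * pwr x a.x) * pwr y a.y := by group
        _ = (a.g : E) * (pwr x a.x * (g : E)) * pwr y a.y := by rw [h2]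
        _ = (a.g : E) * pwr x a.x * ((g : E) * pwr y a.y) := by group
        _ = (a.g : E) * pwr x a.x * (pwr y a.y * (g : E)) := by rw [h3]
        _ = (a.g : E) * pwr x a.x * pwr y a.y * (g : E) := by group
    rcases h.cent (g : E) this with h1 | h1
    · left; exact Subtype.ext h1
    · right; exact Subtype.ext h1

end card

end Good

end Cfsg.Agent.Helper89
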