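import Mathlib
import Cfsg.Agent.Lib.Helper89.Classify.Decomp
import Cfsg.Agent.Lib.Helper89.Classify.Count

set_option autoImplicit false

namespace Cfsg.Agent.Helper89

/-! ### Base groups -/

/-- The central involution of the group of order two. -/
def z2c : CentralInv (Multiplicative (ZMod 2)) where
  val := Multiplicative.ofAdd 1
  central := fun g => mul_comm _ _
  sq := by decide

theorem good_z2 : Good (Multiplicative (ZMod 2)) z2c.val where
  ne_one := by decide
  sq := by decide
  central := fun g => mul_comm _ _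
  sqs := by decide
  comm := by decide
  cent := by
    intro g _
    revert g
    decide

theorem sq_z2 : ∀ s : Multiplicative (ZMod 2), s * s = 1 := by decide

theorem isPlus_z2 : IsPlus (Multiplicative (ZMod 2)) 0 := by
  refine ⟨?_, ?_, ?_⟩
  · rw [invCount_Z2]; norm_num
  · refine ⟨⊤, elemAb_of ⊤ (fun a _ b _ => mul_comm a b) (fun a _ => sq_z2 a), ?_⟩
    rw [Subgroup.card_top, Twist.card_mult_zmod_two]; norm_num
  · intro A _
    calc Nat.card A ≤ Nat.card (Multiplicative (ZMod 2)) := Subgroup.card_le_card_group _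
      _ = 2 ^ (0 + 1) := by rw [Twist.card_mult_zmod_two]; norm_num

theorem zmod_two_form' (x y : ZMod 2) (h : 1 * x * x + y * x + 1 * y * y = 0) : x = 0 ∧ y = 0 := by
  revert x y
  decide

theorem q8_sq_eq_one_iff (a : Twist (Multiplicative (ZMod 2)) z2c 1 1) :
    a ^ 2 = 1 ↔ a.x = 0 ∧ a.y = 0 := by
  rw [pow_two]
  constructor
  · intro h
    have h1 := congrArg Twist.g h
    simp only [Twist.mul_g, Twist.one_g, beta] at h1
    rw [sq_z2, one_mul] at h1
    have h3 := (z2c.pw_eq_one_iff good_z2.ne_one _).mp h1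
    exact zmod_two_form' _ _ h3
  · rintro ⟨hx, hy⟩
    apply Twist.ext
    · simp only [Twist.mul_g, Twist.one_g, beta, hx, hy]
      rw [sq_z2]; simp
    · simp [hx]
    · simp [hy]

theorem isMinus_q8 : IsMinus (Twist (Multiplicative (ZMod 2)) z2c 1 1) 1 := by
  refine ⟨?_, ?_, ?_⟩
  · unfold invCount
    have e : {a : Twist (Multiplicative (ZMod 2)) z2c 1 1 // a ^ 2 = 1} ≃ Multiplicative (ZMod 2) :=
      { toFun := fun a => a.1.g
        invFun := fun s => ⟨Twist.inl s, (q8_sq_eq_one_iff _).mpr ⟨rfl, rfl⟩⟩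
        left_inv := by
          rintro ⟨a, ha⟩
          have := (q8_sq_eq_one_iff a).mp ha
          apply Subtype.ext
          exact Twist.ext rfl this.1.symm this.2.symm
        right_inv := fun s => rfl }
    rw [Nat.card_congr e, Twist.card_mult_zmod_two]
    norm_num
  · refine ⟨(⊤ : Subgroup (Multiplicative (ZMod 2))).map Twist.inl, ?_, ?_⟩
    · apply elemAb_of
      · rintro _ ⟨s, _, rfl⟩ _ ⟨t, _, rfl⟩
        rw [← map_mul, ← map_mul, mul_comm]
      · rintro _ ⟨s, _, rfl⟩
        rw [← map_mul, sq_z2 s, map_one]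
    · rw [Subgroup.card_map_of_injective Twist.inl_injective, Subgroup.card_top,
        Twist.card_mult_zmod_two]
      norm_num
  · intro A hA
    have hle : A ≤ (⊤ : Subgroup (Multiplicative (ZMod 2))).map Twist.inl := by
      intro a ha
      have h1 : a ^ 2 = 1 := by rw [pow_two]; exact elemAb_sq hA ha
      obtain ⟨hx, hy⟩ := (q8_sq_eq_one_iff a).mp h1
      exact ⟨a.g, Subgroup.mem_top _, Twist.ext rfl hx.symm hy.symm⟩
    calc Nat.card A ≤ Nat.card ((⊤ : Subgroup (Multiplicative (ZMod 2))).map
          (Twist.inl : _ →* Twist (Multiplicative (ZMod 2)) z2c 1 1)) := Subgroup.card_le_of_le hle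
      _ = 2 ^ 1 := by
        rw [Subgroup.card_map_of_injective Twist.inl_injective, Subgroup.card_top,
          Twist.card_mult_zmod_two]
        norm_num

/-! ### The inductive steps -/

theorem IsPlus.twist {E : Type*} [Group E] [Finite E] {c : CentralInv E} (hG : Good E c.val) {n : ℕ}
    (hcard : Nat.card E = 2 ^ (2 * n + 1)) (h : IsPlus E n) : IsPlus (Twist E c 0 0) (n + 1) := by
  refine ⟨?_, Twist.rankGE h.2.1, Twist.rankLE hG.ne_one h.2.2⟩
  rw [Twist.invCount_eq hG, h.1, hcard]
  ring

theorem IsMinus.twist {E : Type*} [Group E] [Finite E] {c : CentralInv E} (hG : Good E c.val) {n : ℕ}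
    (hcard : Nat.card E = 2 ^ (2 * n + 1)) (h : IsMinus E n) : IsMinus (Twist E c 0 0) (n + 1) := by
  refine ⟨?_, Twist.rankGE h.2.1, Twist.rankLE hG.ne_one h.2.2⟩
  rw [Twist.invCount_eq hG, h.1, hcard]
  have h1 : 2 ^ n ≤ 2 ^ (2 * n) := Nat.pow_le_pow_right (by norm_num) (by omega)
  have e1 : 2 ^ (2 * n + 1) = 2 * 2 ^ (2 * n) := by ring
  have e2 : 2 ^ (2 * (n + 1)) = 4 * 2 ^ (2 * n) := by ring
  have e3 : 2 ^ (n + 1) = 2 * 2 ^ n := by ring
  rw [e1, e2, e3]
  omega

/-! ### Choice of generators -/

namespace Good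

variable {E : Type*} [Group E] {c : E} (h : Good E c)

include h in
/-- A `Good` group with more than two elements has a non-commuting pair. -/
theorem exists_pair [Finite E] (hcard : 2 < Nat.card E) : ∃ x y : E, x * y * x⁻¹ * y⁻¹ = c := by
  by_contra hcon
  push Not at hcon
  have hcomm : ∀ g k : E, g * k = k * g := by
    intro g k
    rcases h.comm g k with h1 | h1
    · exact comm_of_commutator_eq_one h1
    · exact absurd h1 (hcon g k)
  have hall : ∀ g : E, g = 1 ∨ g = c := fun g => h.cent g (fun k => hcomm g k)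
  have hle : Nat.card E ≤ 2 := by
    rw [← Set.ncard_univ]
    calc (Set.univ : Set E).ncard ≤ ({1, c} : Set E).ncard := by
          apply Set.ncard_le_ncard _ (Set.toFinite _)
          intro g _
          rcases hall g with h1 | h1
          · left; exact h1
          · right; exact h1
      _ ≤ 2 := by
          refine (Set.ncard_insert_le _ _).trans ?_
          simp
  omega

include h in
/-- Normalization of a non-commuting pair. -/
theorem normalize_pair {x y : E} (hxy : x * y * x⁻¹ * y⁻¹ = c) :
    ∃ x' y' : E, x' * y' * x'⁻¹ * y'⁻¹ = c ∧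
      ((x' * x' = 1 ∧ y' * y' = 1) ∨ (x' * x' = c ∧ y' * y' = c)) := by
  have hne := h.ne_of_comm_eq hxy
  rcases h.sqs x with hx | hx <;> rcases h.sqs y with hy | hy
  · exact ⟨x, y, hxy, Or.inl ⟨hx, hy⟩⟩
  · -- x² = 1, y² = c : use (x, x y)
    refine ⟨x, x * y, ?_, Or.inl ⟨hx, ?_⟩⟩
    · apply h.comm_eq_of_ne
      intro h1
      apply hne
      have : x * (x * y) = x * (y * x) := by rw [h1]; group
      exact mul_left_cancel this
    · rw [h.mul_sq hxy, hx, hy, mul_one, h.sq]
  · -- x² = c, y² = 1 : use (x y, y)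
    refine ⟨x * y, y, ?_, Or.inl ⟨?_, hy⟩⟩
    · apply h.comm_eq_of_ne
      intro h1
      apply hne
      have : (x * y) * y = (y * x) * y := by rw [h1]; group
      exact mul_right_cancel this
    · rw [h.mul_sq hxy, hx, hy, mul_one, h.sq]
  · exact ⟨x, y, hxy, Or.inr ⟨hx, hy⟩⟩

include h in
/-- A non-central involution lies in a pair of non-commuting involutions. -/
theorem exists_inv_pair_of_noncentral_inv {t : E} (ht : t * t = 1) (htc : ∃ w : E, t * w ≠ w * t) :
    ∃ x y : E, x * y * x⁻¹ * y⁻¹ = c ∧ x * x = 1 ∧ y * y = 1 := by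
  obtain ⟨w, hw⟩ := htc
  have hwt : w * t * w⁻¹ * t⁻¹ = c := h.comm_eq_of_ne (fun h1 => hw h1.symm)
  rcases h.sqs w with h1 | h1
  · exact ⟨t, w, h.comm_eq_of_ne hw, ht, h1⟩
  · refine ⟨t, w * t, ?_, ht, ?_⟩
    · apply h.comm_eq_of_ne
      intro h2
      apply hw
      have : (t * w) * t = (w * t) * t := by rw [← h2]; group
      exact mul_right_cancel this
    · rw [h.mul_sq hwt, h1, ht, mul_one, h.sq]

include h in
/-- Good generators: involutions, or (only for order 8) elements of order four. -/
theorem exists_good_pair [Finite E] {k : ℕ} (hcard : Nat.card E = 2 ^ (2 * (k + 1) + 1)) :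
    ∃ x y : E, x * y * x⁻¹ * y⁻¹ = c ∧
      ((x * x = 1 ∧ y * y = 1) ∨ (k = 0 ∧ x * x = c ∧ y * y = c)) := by
  have h8 : 2 ^ 3 ≤ 2 ^ (2 * (k + 1) + 1) := Nat.pow_le_pow_right (by norm_num) (by omega)
  obtain ⟨x0, y0, hxy0⟩ := h.exists_pair (by rw [hcard]; omega)
  obtain ⟨x, y, hxy, hsq⟩ := h.normalize_pair hxy0
  rcases hsq with hsq | hsq
  · exact ⟨x, y, hxy, Or.inl hsq⟩
  · by_cases hk : k = 0
    · exact ⟨x, y, hxy, Or.inr ⟨hk, hsq⟩⟩
    · -- look inside the centralizer of x, y
      have hx : x * x = pwr c 1 := by rw [pwr_one]; exact hsq.1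
      have hy : y * y = pwr c 1 := by rw [pwr_one]; exact hsq.2
      have hC := h.good_cent2 hxy hx hy
      have hCcard := h.card_eq_four_mul hxy hx hy
      have h32 : 2 ^ 5 ≤ 2 ^ (2 * (k + 1) + 1) := Nat.pow_le_pow_right (by norm_num) (by omega)
      obtain ⟨u, v, huv⟩ := hC.exists_pair (by rw [hcard] at hCcard; omega)
      have huv' : (u : E) * (v : E) ≠ (v : E) * (u : E) := by
        intro h1
        apply hC.ne_of_comm_eq huv
        exact Subtype.ext h1
      have hum := mem_cent2.mp u.2
      rcases h.sqs (u : E) with hu | hu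
      · obtain ⟨x', y', h1, h2, h3⟩ := h.exists_inv_pair_of_noncentral_inv hu ⟨(v : E), huv'⟩
        exact ⟨x', y', h1, Or.inl ⟨h2, h3⟩⟩
      · -- t = x u
        have hxu : x * (u : E) = (u : E) * x := hum.1.symm
        have ht : (x * (u : E)) * (x * (u : E)) = 1 := by
          calc (x * (u : E)) * (x * (u : E)) = x * ((u : E) * x) * (u : E) := by group
            _ = x * (x * (u : E)) * (u : E) := by rw [← hxu]
            _ = (x * x) * ((u : E) * (u : E)) := by group
            _ = 1 := by rw [hsq.1, hu, h.sq]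
        have htc : (x * (u : E)) * y ≠ y * (x * (u : E)) := by
          intro h1
          apply h.ne_of_comm_eq hxy
          have : x * y * (u : E) = y * x * (u : E) := by
            calc x * y * (u : E) = x * (y * (u : E)) := by group
              _ = x * ((u : E) * y) := by rw [hum.2]
              _ = (x * (u : E)) * y := by group
              _ = y * (x * (u : E)) := h1
              _ = y * x * (u : E) := by group
          exact mul_right_cancel this
        obtain ⟨x', y', h1, h2, h3⟩ := h.exists_inv_pair_of_noncentral_inv ht ⟨y, htc⟩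
        exact ⟨x', y', h1, Or.inl ⟨h2, h3⟩⟩

end Good

end Cfsg.Agent.Helper89
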