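import Mathlib
import Cfsg.Agent.Lib.Helper89.Classify.Main

set_option autoImplicit false

namespace Cfsg.Agent.Helper89

universe u v

/-- Normal form of a `Good` group of order `2 ^ (2 (k + 1) + 1)`: a central product of a smaller
`Good` group with a dihedral group, or (only for order 8) the quaternion group. -/
theorem Good.normal_form {E : Type u} [Group E] [Finite E] {c : E} (h : Good E c) {k : ℕ}
    (hcard : Nat.card E = 2 ^ (2 * (k + 1) + 1)) :
    (∃ (C : Type u) (_ : Group C) (_ : Finite C) (cC : CentralInv C), Good C cC.val ∧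
        Nat.card C = 2 ^ (2 * k + 1) ∧ ∃ φ : Twist C cC 0 0 ≃* E, φ (Twist.inl cC.val) = c) ∨
      (k = 0 ∧ ∃ φ : Twist (Multiplicative (ZMod 2)) z2c 1 1 ≃* E, φ (Twist.inl z2c.val) = c) := by
  obtain ⟨x, y, hxy, hsq⟩ := h.exists_good_pair hcard
  rcases hsq with ⟨hx1, hy1⟩ | ⟨hk, hxc, hyc⟩
  · left
    have hx : x * x = pwr c 0 := by rw [pwr_zero]; exact hx1
    have hy : y * y = pwr c 0 := by rw [pwr_zero]; exact hy1
    have hC := h.good_cent2 hxy hx hy
    have h4 := h.card_eq_four_mul hxy hx hy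
    refine ⟨↥(cent2 x y), inferInstance, inferInstance, h.centCInv, hC, ?_,
      h.decompEquiv hxy hx hy, h.decompEquiv_inl hxy hx hy⟩
    rw [hcard] at h4
    have e : 2 ^ (2 * (k + 1) + 1) = 2 ^ (2 * k + 1) * 4 := by ring
    rw [e] at h4
    exact (Nat.eq_of_mul_eq_mul_right (by norm_num) h4).symm
  · right
    refine ⟨hk, ?_⟩
    subst hk
    have hx : x * x = pwr c 1 := by rw [pwr_one]; exact hxc
    have hy : y * y = pwr c 1 := by rw [pwr_one]; exact hyc
    have hC := h.good_cent2 hxy hx hy
    have h4 := h.card_eq_four_mul hxy hx hy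
    have hC2 : Nat.card ↥(cent2 x y) = 2 := by
      rw [hcard] at h4
      norm_num at h4
      omega
    obtain ⟨ψ, hψ⟩ := hC.exists_equiv_of_card_two hC2
    have hψ' : ψ z2c.val = (h.centCInv (x := x) (y := y)).val := hψ
    refine ⟨(Twist.congr ψ hψ' 1 1).trans (h.decompEquiv hxy hx hy), ?_⟩
    rw [MulEquiv.trans_apply, Twist.congr_inl, hψ']
    exact h.decompEquiv_inl hxy hx hy

/-- Every `Good` group of order `2 ^ (2 n + 1)` is of plus type or of minus type. -/
theorem Good.type_cases : ∀ (n : ℕ) (E : Type u) [Group E] [Finite E] (c : E), Good E c →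
    Nat.card E = 2 ^ (2 * n + 1) → IsPlus E n ∨ (1 ≤ n ∧ IsMinus E n) := by
  intro n
  induction n with
  | zero =>
    intro E _ _ c h hcard
    left
    obtain ⟨φ, _⟩ := h.exists_equiv_of_card_two (by simpa using hcard)
    exact isPlus_z2.congr φ
  | succ k ih =>
    intro E _ _ c h hcard
    rcases h.normal_form hcard with ⟨C, _, _, cC, hC, hCcard, φ, _⟩ | ⟨hk, φ, _⟩
    · rcases ih C cC.val hC hCcard with hp | ⟨hk, hm⟩
      · left
        exact (IsPlus.twist hC hCcard hp).congr φ
      · right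
        exact ⟨by omega, (IsMinus.twist hC hCcard hm).congr φ⟩
    · right
      subst hk
      exact ⟨by omega, isMinus_q8.congr φ⟩

/-- In a dihedral central product the type is inherited from the smaller factor. -/
theorem sign_of_twist {E : Type u} [Group E] {C : Type u} [Group C] [Finite C] {cC : CentralInv C}
    (hC : Good C cC.val) {k : ℕ} (hCcard : Nat.card C = 2 ^ (2 * k + 1))
    (φ : Twist C cC 0 0 ≃* E) :
    (IsPlus E (k + 1) → IsPlus C k) ∧ (IsMinus E (k + 1) → IsMinus C k) := by
  rcases Good.type_cases k C cC.val hC hCcard with hp | ⟨_, hm⟩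
  · have hE : IsPlus E (k + 1) := (IsPlus.twist hC hCcard hp).congr φ
    exact ⟨fun _ => hp, fun h2 => (not_isPlus_and_isMinus hE h2).elim⟩
  · have hE : IsMinus E (k + 1) := (IsMinus.twist hC hCcard hm).congr φ
    exact ⟨fun h2 => (not_isPlus_and_isMinus h2 hE).elim, fun _ => hm⟩

/-- Two `Good` groups of the same order and the same type are isomorphic. -/
theorem Good.unique : ∀ (n : ℕ) (E : Type u) [Group E] [Finite E] (c : E) (E' : Type v) [Group E']
    [Finite E'] (c' : E'), Good E c → Good E' c' → Nat.card E = 2 ^ (2 * n + 1) →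
    Nat.card E' = 2 ^ (2 * n + 1) → ((IsPlus E n ∧ IsPlus E' n) ∨ (IsMinus E n ∧ IsMinus E' n)) →
    ∃ φ : E ≃* E', φ c = c' := by
  intro n
  induction n with
  | zero =>
    intro E _ _ c E' _ _ c' h h' hcard hcard' _
    obtain ⟨φ1, h1⟩ := h.exists_equiv_of_card_two (by simpa using hcard)
    obtain ⟨φ2, h2⟩ := h'.exists_equiv_of_card_two (by simpa using hcard')
    refine ⟨φ1.symm.trans φ2, ?_⟩
    rw [MulEquiv.trans_apply, ← h1, MulEquiv.symm_apply_apply, h2]
  | succ k ih =>
    intro E _ _ c E' _ _ c' h h' hcard hcard' htype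
    rcases h.normal_form hcard with ⟨C, _, _, cC, hC, hCcard, φ, hφ⟩ | ⟨hk, φ, hφ⟩
    · rcases h'.normal_form hcard' with ⟨C', _, _, cC', hC', hCcard', φ', hφ'⟩ | ⟨hk', φ', hφ'⟩
      · -- both dihedral products
        have hs := sign_of_twist hC hCcard φ
        have hs' := sign_of_twist hC' hCcard' φ'
        have htypeC : (IsPlus C k ∧ IsPlus C' k) ∨ (IsMinus C k ∧ IsMinus C' k) := by
          rcases htype with ⟨h1, h2⟩ | ⟨h1, h2⟩
          · exact Or.inl ⟨hs.1 h1, hs'.1 h2⟩
          · exact Or.inr ⟨hs.2 h1, hs'.2 h2⟩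
        obtain ⟨ψ, hψ⟩ := ih C cC.val C' cC'.val hC hC' hCcard hCcard' htypeC
        refine ⟨φ.symm.trans ((Twist.congr ψ hψ 0 0).trans φ'), ?_⟩
        rw [MulEquiv.trans_apply, MulEquiv.trans_apply, ← hφ, MulEquiv.symm_apply_apply,
          Twist.congr_inl, hψ, hφ']
      · -- E dihedral product, E' quaternion: impossible
        exfalso
        subst hk'
        have hE' : IsMinus E' 1 := isMinus_q8.congr φ'
        have hs := sign_of_twist hC hCcard φ
        rcases htype with ⟨_, h2⟩ | ⟨h1, _⟩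
        · exact not_isPlus_and_isMinus h2 hE'
        · have hCm := hs.2 h1
          rcases Good.type_cases 0 C cC.val hC hCcard with hp | ⟨h0, _⟩
          · exact not_isPlus_and_isMinus hp hCm
          · omega
    · subst hk
      have hE : IsMinus E 1 := isMinus_q8.congr φ
      rcases h'.normal_form hcard' with ⟨C', _, _, cC', hC', hCcard', φ', hφ'⟩ | ⟨_, φ', hφ'⟩
      · exfalso
        have hs' := sign_of_twist hC' hCcard' φ'
        rcases htype with ⟨h1, _⟩ | ⟨_, h2⟩
        · exact not_isPlus_and_isMinus h1 hE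
        · have hCm := hs'.2 h2
          rcases Good.type_cases 0 C' cC'.val hC' hCcard' with hp | ⟨h0, _⟩
          · exact not_isPlus_and_isMinus hp hCm
          · omega
      · refine ⟨φ.symm.trans φ', ?_⟩
        rw [MulEquiv.trans_apply, ← hφ, MulEquiv.symm_apply_apply, hφ']

end Cfsg.Agent.Helper89
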