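import Mathlib
import Cfsg.Agent.Lib.Helper89.Classify.Final
import Cfsg.Agent.Lib.Helper63.Extraspecial

set_option autoImplicit false

namespace Cfsg.Agent.Helper89

universe u v

/-- An extraspecial `2`-group has order `2 ^ (2 n + 1)` with `n ≥ 1` and is of plus or minus type. -/
theorem extraspecial_type {E : Type u} [Group E] [Finite E] (hE : Cfsg.IsExtraspecial 2 E) :
    ∃ (c : E) (n : ℕ), Good E c ∧ 1 ≤ n ∧ Nat.card E = 2 ^ (2 * n + 1) ∧ (IsPlus E n ∨ IsMinus E n) := by
  have : Fact (Nat.Prime 2) := ⟨Nat.prime_two⟩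
  obtain ⟨c, hc⟩ := Good.of_isExtraspecial hE
  obtain ⟨n, hn, hcard⟩ := Cfsg.Agent.Helper63.extraspecial_card hE
  refine ⟨c, n, hc, hn, hcard, ?_⟩
  rcases Good.type_cases n E c hc hcard with hp | ⟨_, hm⟩
  · exact Or.inl hp
  · exact Or.inr hm

/-- Extraspecial `2`-groups of the same order and type are isomorphic. -/
theorem extraspecial_iso {E : Type u} [Group E] [Finite E] {E' : Type v} [Group E'] [Finite E']
    {c : E} {c' : E'} (h : Good E c) (h' : Good E' c') {n : ℕ} (hcard : Nat.card E = 2 ^ (2 * n + 1))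
    (hcard' : Nat.card E' = 2 ^ (2 * n + 1))
    (htype : (IsPlus E n ∧ IsPlus E' n) ∨ (IsMinus E n ∧ IsMinus E' n)) : Nonempty (E ≃* E') := by
  obtain ⟨φ, _⟩ := Good.unique n E c E' c' h h' hcard hcard' htype
  exact ⟨φ⟩

theorem pow_two_injective {m n : ℕ} (h : 2 ^ (2 * m + 1) = 2 ^ (2 * n + 1)) : m = n := by
  have := Nat.pow_right_injective (le_refl 2) h
  omega

end Cfsg.Agent.Helper89
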